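import Mathlib

/-!
# Groups with a simple normal section which is covered by each subgroup normalised by it

`AS W J S`: `J` is normal in `W`, `S / J` is perfect and non-trivial, `[W, W] ≤ S`, and each subgroup `Y ≤ W`
with `Y J` normalised by `S` is in `J` or covers `S / J`.
-/

set_option autoImplicit false
set_option linter.unusedSectionVars false

namespace Cfsg.Agent.H508.AltSec

open Subgroup
open scoped commutatorElement

variable {G : Type*} [Group G]

/-! ### Commutators modulo a subgroup -/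

/-- The elements of the normalizer of `Q` commuting with `Z` modulo `Q`. -/
def cen (Q Z : Subgroup G) : Subgroup G where
  carrier := {w | w ∈ normalizer (Q : Set G) ∧ ∀ z ∈ Z, ⁅w, z⁆ ∈ Q}
  one_mem' := ⟨one_mem _, fun z _ => by rw [commutatorElement_one_left]; exact one_mem _⟩
  mul_mem' := by
    rintro x y ⟨hx, hx'⟩ ⟨hy, hy'⟩
    refine ⟨mul_mem hx hy, fun z hz => ?_⟩
    have e : ⁅x * y, z⁆ = (x * ⁅y, z⁆ * x⁻¹) * ⁅x, z⁆ := by
      simp only [commutatorElement_def]; group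
    rw [e]
    exact mul_mem ((mem_normalizer_iff.mp hx _).mp (hy' z hz)) (hx' z hz)
  inv_mem' := by
    rintro x ⟨hx, hx'⟩
    refine ⟨inv_mem hx, fun z hz => ?_⟩
    have e : ⁅x⁻¹, z⁆ = x⁻¹ * ⁅x, z⁆⁻¹ * x⁻¹⁻¹ := by
      simp only [commutatorElement_def]; group
    rw [e]
    exact (mem_normalizer_iff.mp (inv_mem hx) _).mp (inv_mem (hx' z hz))

theorem le_cen {Q Z X : Subgroup G} : X ≤ cen Q Z ↔ X ≤ normalizer (Q : Set G) ∧ ⁅X, Z⁆ ≤ Q := by
  constructor
  · intro h
    exact ⟨fun x hx => (h hx).1, commutator_le.mpr fun x hx z hz => (h hx).2 z hz⟩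
  · intro h x hx
    exact ⟨h.1 hx, fun z hz => h.2 (commutator_mem_commutator hx hz)⟩

theorem comm_sup_left {Q Z X Y : Subgroup G} (hX : X ≤ normalizer (Q : Set G))
    (hY : Y ≤ normalizer (Q : Set G)) (h1 : ⁅X, Z⁆ ≤ Q) (h2 : ⁅Y, Z⁆ ≤ Q) : ⁅X ⊔ Y, Z⁆ ≤ Q :=
  (le_cen.mp (sup_le (le_cen.mpr ⟨hX, h1⟩) (le_cen.mpr ⟨hY, h2⟩))).2

theorem comm_sup_right {Q Z X Y : Subgroup G} (hX : X ≤ normalizer (Q : Set G))
    (hY : Y ≤ normalizer (Q : Set G)) (h1 : ⁅Z, X⁆ ≤ Q) (h2 : ⁅Z, Y⁆ ≤ Q) : ⁅Z, X ⊔ Y⁆ ≤ Q := by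
  rw [commutator_comm] at *
  exact comm_sup_left hX hY h1 h2

theorem norm_sup {X Y Z : Subgroup G} (h1 : Z ≤ normalizer (X : Set G))
    (h2 : Z ≤ normalizer (Y : Set G)) : Z ≤ normalizer ((X ⊔ Y : Subgroup G) : Set G) := by
  rw [le_normalizer_iff_commutator_le_right] at *
  have hX : X ≤ normalizer ((X ⊔ Y : Subgroup G) : Set G) := le_sup_left.trans le_normalizer
  have hY : Y ≤ normalizer ((X ⊔ Y : Subgroup G) : Set G) := le_sup_right.trans le_normalizer
  exact comm_sup_right hX hY (h1.trans le_sup_left) (h2.trans le_sup_right)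

theorem norm_inf {X Y Z : Subgroup G} (h1 : Z ≤ normalizer (X : Set G))
    (h2 : Z ≤ normalizer (Y : Set G)) : Z ≤ normalizer ((X ⊓ Y : Subgroup G) : Set G) := by
  rw [le_normalizer_iff_commutator_le_right] at *
  exact le_inf ((commutator_mono le_rfl inf_le_left).trans h1)
    ((commutator_mono le_rfl inf_le_right).trans h2)

theorem norm_iInf {ι : Sort*} {X : ι → Subgroup G} {Z : Subgroup G}
    (h : ∀ i, Z ≤ normalizer ((X i : Subgroup G) : Set G)) :
    Z ≤ normalizer ((⨅ i, X i : Subgroup G) : Set G) := by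
  rw [le_normalizer_iff_commutator_le_right]
  refine le_iInf fun i => ?_
  exact (commutator_mono le_rfl (iInf_le _ i)).trans
    (le_normalizer_iff_commutator_le_right.mp (h i))

/-- Intersections of covering subgroups cover a perfect section. -/
theorem inf_step {M J S Y Z : Subgroup G} (hJ : M ≤ normalizer (J : Set G))
    (hY : Y ≤ M) (hZ : Z ≤ M) (hnY : M ≤ normalizer (Y : Set G)) (hnZ : M ≤ normalizer (Z : Set G))
    (hS : S ≤ ⁅S, S⁆ ⊔ J) (h1 : S ≤ Y ⊔ J) (h2 : S ≤ Z ⊔ J) : S ≤ (Y ⊓ Z) ⊔ J := by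
  refine hS.trans (sup_le ?_ le_sup_right)
  refine (commutator_mono h1 h2).trans ?_
  have hYQ : M ≤ normalizer (((Y ⊓ Z) ⊔ J : Subgroup G) : Set G) :=
    norm_sup (norm_inf hnY hnZ) hJ
  have hJQ : J ≤ normalizer (((Y ⊓ Z) ⊔ J : Subgroup G) : Set G) :=
    le_sup_right.trans le_normalizer
  have hYJ : ⁅Y, J⁆ ≤ (Y ⊓ Z) ⊔ J :=
    (le_normalizer_iff_commutator_le_right.mp (hY.trans hJ)).trans le_sup_right
  have hZJ : ⁅Z, J⁆ ≤ (Y ⊓ Z) ⊔ J :=
    (le_normalizer_iff_commutator_le_right.mp (hZ.trans hJ)).trans le_sup_right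
  have hJJ : ⁅J, J⁆ ≤ (Y ⊓ Z) ⊔ J := (commutator_le_self J).trans le_sup_right
  have hYZ : ⁅Y, Z⁆ ≤ (Y ⊓ Z) ⊔ J := by
    refine le_trans (le_inf ?_ ?_) le_sup_left
    · exact le_normalizer_iff_commutator_le_left.mp (hZ.trans hnY)
    · exact le_normalizer_iff_commutator_le_right.mp (hY.trans hnZ)
  refine comm_sup_left (hY.trans hYQ) hJQ ?_ ?_
  · exact comm_sup_right (hZ.trans hYQ) hJQ hYZ hYJ
  · refine comm_sup_right (hZ.trans hYQ) hJQ ?_ hJJ
    rw [commutator_comm]; exact hZJ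

theorem iInf_step {M J S : Subgroup G} (hJ : M ≤ normalizer (J : Set G)) {ι : Type*} [Finite ι]
    (Y : ι → Subgroup G) (hY : ∀ i, Y i ≤ M)
    (hn : ∀ i, M ≤ normalizer ((Y i : Subgroup G) : Set G)) (hS : S ≤ ⁅S, S⁆ ⊔ J)
    (h0 : S ≤ M ⊔ J) (h : ∀ i, S ≤ Y i ⊔ J) : S ≤ (M ⊓ ⨅ i, Y i) ⊔ J := by
  classical
  cases nonempty_fintype ι
  have key : ∀ s : Finset ι, S ≤ (M ⊓ ⨅ i ∈ s, Y i) ⊔ J := by
    intro s
    induction s using Finset.induction_on with
    | empty => simpa using h0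
    | insert i s _ ih =>
      rw [Finset.iInf_insert, inf_left_comm]
      exact inf_step hJ (hY i) inf_le_left (hn i) (norm_inf le_normalizer
        (norm_iInf fun j => norm_iInf fun _ => hn j)) hS (h i) ih
  simpa using key Finset.univ

theorem relIndex_sup_of_norm {M J : Subgroup G} (hJ : M ≤ normalizer (J : Set G)) :
    J.relIndex (M ⊔ J) = J.relIndex M := by
  have h1 : J.relIndex (M ⊔ J) = (J.subgroupOf (M ⊔ J)).index := rfl
  have hn : (J.subgroupOf (M ⊔ J)).Normal := by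
    rw [normal_subgroupOf_iff_le_normalizer le_sup_right]
    exact sup_le hJ le_normalizer
  have h2 := relIndex_sup_right (M.subgroupOf (M ⊔ J)) (J.subgroupOf (M ⊔ J))
  rw [← subgroupOf_sup le_sup_left le_sup_right, subgroupOf_self, relIndex_top_right] at h2
  rw [h1, h2, relIndex_subgroupOf le_sup_left]

/-! ### The structure -/

/-- See the header. -/
structure AS (W J S : Subgroup G) : Prop where
  JS : J ≤ S
  SW : S ≤ W
  nJ : W ≤ normalizer (J : Set G)
  key : ∀ Y ≤ W, S ≤ normalizer ((Y ⊔ J : Subgroup G) : Set G) → Y ≤ J ∨ S ≤ Y ⊔ J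
  perf : S ≤ ⁅S, S⁆ ⊔ J
  com : ⁅W, W⁆ ≤ S
  ne : ¬ S ≤ J

namespace AS

variable {W J S : Subgroup G}

theorem nS (h : AS W J S) : W ≤ normalizer (S : Set G) := by
  rw [le_normalizer_iff_commutator_le_right]
  exact (commutator_mono le_rfl h.SW).trans h.com

theorem key' (h : AS W J S) {Y : Subgroup G} (hY : Y ≤ W) (hn : S ≤ normalizer (Y : Set G)) :
    Y ≤ J ∨ S ≤ Y ⊔ J :=
  h.key Y hY (norm_sup hn (h.SW.trans h.nJ))

/-- The centralizer of the section. -/
theorem le_of_comm (h : AS W J S) {Y : Subgroup G} (hY : Y ≤ W) (hc : ⁅Y, S⁆ ≤ J) : Y ≤ J := by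
  have hn : S ≤ normalizer ((Y ⊔ J : Subgroup G) : Set G) := by
    rw [le_normalizer_iff_commutator_le_right]
    have hYN : Y ≤ normalizer ((Y ⊔ J : Subgroup G) : Set G) := le_sup_left.trans le_normalizer
    have hJN : J ≤ normalizer ((Y ⊔ J : Subgroup G) : Set G) := le_sup_right.trans le_normalizer
    refine comm_sup_right hYN hJN ?_ ?_
    · rw [commutator_comm]; exact hc.trans le_sup_right
    · exact (le_normalizer_iff_commutator_le_right.mp (h.SW.trans h.nJ)).trans le_sup_right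
  rcases h.key Y hY hn with h1 | h1
  · exact h1
  · exfalso
    apply h.ne
    refine h.perf.trans (sup_le ?_ le_rfl)
    refine (commutator_mono h1 le_rfl).trans ?_
    refine comm_sup_left (hY.trans h.nJ) le_normalizer hc ?_
    exact le_normalizer_iff_commutator_le_left.mp (h.SW.trans h.nJ)

/-- A perfect subgroup of `W` is in `S`. -/
theorem le_of_perfect (h : AS W J S) {N : Subgroup G} (hN : N ≤ W) (hp : ⁅N, N⁆ = N) : N ≤ S := by
  rw [← hp]
  exact (commutator_mono hN hN).trans h.com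

/-- No group with small quotients. -/
theorem false_of_family [Finite G] (h : AS W J S) {M : Subgroup G} (hMW : M ≤ W) (hSM : S ≤ M ⊔ J)
    {ι : Type*} [Finite ι] (Y : ι → Subgroup G) (hY : ∀ i, Y i ≤ M)
    (hn : ∀ i, M ≤ normalizer ((Y i : Subgroup G) : Set G))
    (hc : ∀ i, (Y i).relIndex M < J.relIndex S) (hinf : M ⊓ ⨅ i, Y i ≤ J) : False := by
  have h1 : ∀ i, S ≤ Y i ⊔ J := by
    intro i
    have h2 : S ≤ normalizer ((Y i ⊔ J : Subgroup G) : Set G) := by
      refine hSM.trans (sup_le ?_ (le_sup_right.trans le_normalizer))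
      exact norm_sup (hn i) (hMW.trans h.nJ)
    rcases h.key _ ((hY i).trans hMW) h2 with h3 | h3
    · exfalso
      have h4 : J.relIndex S ≤ J.relIndex (M ⊔ J) :=
        relIndex_le_of_le_right hSM (index_ne_zero_of_finite (H := J.subgroupOf (M ⊔ J)))
      rw [relIndex_sup_of_norm (hMW.trans h.nJ)] at h4
      have h5 : J.relIndex M ≤ (Y i).relIndex M :=
        relIndex_le_of_le_left h3 (index_ne_zero_of_finite (H := (Y i).subgroupOf M))
      exact absurd (hc i) (not_lt.mpr (h4.trans h5))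
    · exact h3
  apply h.ne
  refine (iInf_step (hMW.trans h.nJ) Y hY hn h.perf hSM h1).trans ?_
  exact sup_le hinf le_rfl

end AS

end Cfsg.Agent.H508.AltSec
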