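import Mathlib
import Cfsg.Agent.H508.AltSec

/-!
# Homomorphisms to symmetric groups whose range contains the alternating group
-/

set_option autoImplicit false
set_option linter.unusedSectionVars false

namespace Cfsg.Agent.H508.AltHom

open Subgroup Equiv.Perm
open Cfsg.Agent.H508.AltSec
open scoped commutatorElement

section perm

variable {X : Type*} [Fintype X] [DecidableEq X]

/-- The alternating group has trivial centralizer. -/
theorem centralizer_alternating (h4 : 4 ≤ Fintype.card X) :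
    centralizer (alternatingGroup X : Set (Equiv.Perm X)) = ⊥ := by
  rw [eq_bot_iff]
  intro y hy
  rw [mem_centralizer_iff] at hy
  rw [mem_bot]
  ext a
  rw [Equiv.Perm.one_apply]
  by_contra hya
  have h1 : ({a, y a} : Finset X).card < (Finset.univ : Finset X).card := by
    rw [Finset.card_univ]
    exact lt_of_le_of_lt (Finset.card_le_two) (by omega)
  obtain ⟨c, -, hc⟩ := Finset.exists_mem_notMem_of_card_lt_card h1
  have h2 : ({a, y a, c} : Finset X).card < (Finset.univ : Finset X).card := by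
    rw [Finset.card_univ]
    exact lt_of_le_of_lt (Finset.card_le_three) (by omega)
  obtain ⟨d, -, hd⟩ := Finset.exists_mem_notMem_of_card_lt_card h2
  simp only [Finset.mem_insert, Finset.mem_singleton, not_or] at hc hd
  obtain ⟨hca, hcy⟩ := hc
  obtain ⟨hda, hdy, hdc⟩ := hd
  have hτ : Equiv.swap (y a) c * Equiv.swap c d ∈ (alternatingGroup X : Set (Equiv.Perm X)) := by
    rw [SetLike.mem_coe, mem_alternatingGroup, Equiv.Perm.sign_mul, sign_swap (Ne.symm hcy),
      sign_swap (Ne.symm hdc)]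
    rfl
  have h3 := congrArg (fun f : Equiv.Perm X => f a) (hy _ hτ)
  simp only [Equiv.Perm.mul_apply] at h3
  rw [Equiv.swap_apply_of_ne_of_ne (Ne.symm hca) (Ne.symm hda),
    Equiv.swap_apply_of_ne_of_ne (Ne.symm hya) (Ne.symm hca),
    Equiv.swap_apply_of_ne_of_ne (Ne.symm hcy) (Ne.symm hdy), Equiv.swap_apply_left] at h3
  exact hcy h3

theorem perm_key (h5 : 5 ≤ Fintype.card X) {Y : Subgroup (Equiv.Perm X)}
    (hn : alternatingGroup X ≤ normalizer (Y : Set (Equiv.Perm X))) :
    Y = ⊥ ∨ alternatingGroup X ≤ Y := by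
  have h5' : 5 ≤ Nat.card X := by rwa [Nat.card_eq_fintype_card]
  have := alternatingGroup.isSimpleGroup h5'
  have hAn : Y ≤ normalizer (alternatingGroup X : Set (Equiv.Perm X)) := by
    rw [normalizer_eq_top]; exact le_top
  have h1 : alternatingGroup X ≤ normalizer ((Y ⊓ alternatingGroup X : Subgroup _) :
      Set (Equiv.Perm X)) := norm_inf hn le_normalizer
  have h2 : ((Y ⊓ alternatingGroup X).subgroupOf (alternatingGroup X)).Normal := by
    rw [normal_subgroupOf_iff_le_normalizer inf_le_right]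
    exact h1
  rcases h2.eq_bot_or_eq_top with h3 | h3
  · left
    rw [subgroupOf_eq_bot] at h3
    have h4 : Y ⊓ alternatingGroup X = ⊥ := by
      rw [eq_bot_iff]
      exact h3.le_bot.trans' (le_inf le_rfl inf_le_right)
    rw [eq_bot_iff, ← centralizer_alternating (X := X) (by omega),
      ← commutator_eq_bot_iff_le_centralizer, eq_bot_iff, ← h4]
    exact le_inf (le_normalizer_iff_commutator_le_left.mp hn)
      (le_normalizer_iff_commutator_le_right.mp hAn)
  · right
    rw [subgroupOf_eq_top] at h3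
    exact h3.trans inf_le_left

end perm

section hom

variable {G : Type*} [Group G] {W J : Subgroup G} {X : Type*} [Fintype X] [DecidableEq X]
  (f : W →* Equiv.Perm X)

/-- The preimage of the alternating group. -/
def sec : Subgroup G := ((alternatingGroup X).comap f).map W.subtype

theorem mem_sec {x : G} : x ∈ sec f ↔ ∃ h : x ∈ W, f ⟨x, h⟩ ∈ alternatingGroup X := by
  constructor
  · rintro ⟨y, hy, rfl⟩
    exact ⟨y.2, hy⟩
  · rintro ⟨h, hx⟩
    exact ⟨⟨x, h⟩, hx, rfl⟩

theorem sec_le : sec f ≤ W := fun _ hx => (mem_sec f |>.mp hx).1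

variable {f} (hf : f.ker = J.subgroupOf W) (hJ : J ≤ W) (ha : alternatingGroup X ≤ f.range)
include hf hJ ha

theorem mem_J_iff {x : G} (hx : x ∈ W) : x ∈ J ↔ f ⟨x, hx⟩ = 1 := by
  rw [← MonoidHom.mem_ker, hf, mem_subgroupOf]

theorem as_sec (h5 : 5 ≤ Fintype.card X) : AS W J (sec f) := by
  have h5' : 5 ≤ Nat.card X := by rwa [Nat.card_eq_fintype_card]
  refine ⟨?_, sec_le f, ?_, ?_, ?_, ?_, ?_⟩
  · intro x hx
    rw [mem_sec]
    refine ⟨hJ hx, ?_⟩
    rw [(mem_J_iff hf hJ ha (hJ hx)).mp hx]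
    exact one_mem _
  · rw [← normal_subgroupOf_iff_le_normalizer hJ, ← hf]
    exact f.normal_ker
  · intro Y hY hn
    set Y' : Subgroup (Equiv.Perm X) := (Y.subgroupOf W).map f with hY'
    have hYJ : ∀ x (hx : x ∈ W), x ∈ Y ⊔ J → f ⟨x, hx⟩ ∈ Y' := by
      intro x hx hxs
      have h1 : Y ⊔ J ≤ (Y'.comap f).map W.subtype := by
        refine sup_le ?_ ?_
        · intro y hy
          exact ⟨⟨y, hY hy⟩, mem_map_of_mem f (mem_subgroupOf.mpr hy), rfl⟩
        · intro y hy
          refine ⟨⟨y, hJ hy⟩, ?_, rfl⟩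
          have : f ⟨y, hJ hy⟩ = 1 := (mem_J_iff hf hJ ha (hJ hy)).mp hy
          change f ⟨y, hJ hy⟩ ∈ Y'
          rw [this]
          exact one_mem _
      obtain ⟨⟨z, hz⟩, hz1, hz2⟩ := h1 hxs
      change z = x at hz2
      subst hz2
      exact hz1
    have hn' : alternatingGroup X ≤ normalizer (Y' : Set (Equiv.Perm X)) := by
      rw [le_normalizer_iff_commutator_le_right, commutator_le]
      intro σ hσ τ hτ
      obtain ⟨⟨w, hw⟩, rfl⟩ := ha hσ
      obtain ⟨⟨y, hy⟩, hy1, rfl⟩ := hτ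
      have hyY : y ∈ Y := mem_subgroupOf.mp hy1
      rw [← map_commutatorElement]
      have hws : w ∈ sec f := (mem_sec f).mpr ⟨hw, hσ⟩
      have h1 : w * y * w⁻¹ ∈ Y ⊔ J := (mem_normalizer_iff.mp (hn hws) y).mp (mem_sup_left hyY)
      have h2 : w * y * w⁻¹ * y⁻¹ ∈ Y ⊔ J := mul_mem h1 (mem_sup_left (inv_mem hyY))
      have h3 := hYJ _ (mul_mem (mul_mem (mul_mem hw hy) (inv_mem hw)) (inv_mem hy)) h2
      exact h3
    rcases perm_key h5 hn' with h1 | h1
    · left
      intro y hy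
      rw [mem_J_iff hf hJ ha (hY hy)]
      have h2 : f ⟨y, hY hy⟩ ∈ Y' := mem_map_of_mem f (mem_subgroupOf.mpr hy)
      rwa [h1, mem_bot] at h2
    · right
      intro x hx
      obtain ⟨hxW, hxa⟩ := (mem_sec f).mp hx
      obtain ⟨⟨y, hy⟩, hy1, hy2⟩ := h1 hxa
      have hyY : y ∈ Y := mem_subgroupOf.mp hy1
      have h3 : y⁻¹ * x ∈ J := by
        rw [mem_J_iff hf hJ ha (mul_mem (inv_mem hy) hxW)]
        have : (⟨y⁻¹ * x, mul_mem (inv_mem hy) hxW⟩ : W) = ⟨y, hy⟩⁻¹ * ⟨x, hxW⟩ := rfl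
        rw [this, map_mul, map_inv, hy2, inv_mul_cancel]
      have e : x = y * (y⁻¹ * x) := by group
      rw [e]
      exact mul_mem (mem_sup_left hyY) (mem_sup_right h3)
  · intro x hx
    obtain ⟨hxW, hxa⟩ := (mem_sec f).mp hx
    have h1 : (⁅sec f, sec f⁆.subgroupOf W).map f = alternatingGroup X := by
      apply le_antisymm
      · rintro _ ⟨⟨y, hy⟩, hy1, rfl⟩
        have h2 : y ∈ sec f := (commutator_le_self (sec f)) (mem_subgroupOf.mp hy1)
        exact ((mem_sec f).mp h2).2
      · have h2 : ⁅alternatingGroup X, alternatingGroup X⁆ = alternatingGroup X := by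
          have h3 := commutator_alternatingGroup_eq_top (α := X) h5'
          have h4 := congrArg (Subgroup.map (alternatingGroup X).subtype) h3
          rwa [map_subtype_commutator, ← MonoidHom.range_eq_map, range_subtype] at h4
        rw [← h2, commutator_le]
        intro σ hσ τ hτ
        obtain ⟨⟨w, hw⟩, rfl⟩ := ha hσ
        obtain ⟨⟨v, hv⟩, rfl⟩ := ha hτ
        rw [← map_commutatorElement]
        refine mem_map_of_mem f ?_
        rw [mem_subgroupOf]
        exact commutator_mem_commutator ((mem_sec f).mpr ⟨hw, hσ⟩) ((mem_sec f).mpr ⟨hv, hτ⟩)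
    rw [← h1] at hxa
    obtain ⟨⟨y, hy⟩, hy1, hy2⟩ := hxa
    have h3 : y⁻¹ * x ∈ J := by
      rw [mem_J_iff hf hJ ha (mul_mem (inv_mem hy) hxW)]
      have : (⟨y⁻¹ * x, mul_mem (inv_mem hy) hxW⟩ : W) = ⟨y, hy⟩⁻¹ * ⟨x, hxW⟩ := rfl
      rw [this, map_mul, map_inv, hy2, inv_mul_cancel]
    have e : x = y * (y⁻¹ * x) := by group
    rw [e]
    exact mul_mem (mem_sup_left (mem_subgroupOf.mp hy1)) (mem_sup_right h3)
  · rw [commutator_le]
    intro x hx y hy
    rw [mem_sec]
    refine ⟨W.mul_mem (W.mul_mem (W.mul_mem hx hy) (W.inv_mem hx)) (W.inv_mem hy), ?_⟩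
    rw [mem_alternatingGroup]
    have : (⟨⁅x, y⁆, W.mul_mem (W.mul_mem (W.mul_mem hx hy) (W.inv_mem hx)) (W.inv_mem hy)⟩ : W) =
      ⁅(⟨x, hx⟩ : W), (⟨y, hy⟩ : W)⁆ := rfl
    rw [this, map_commutatorElement, map_commutatorElement]
    exact (Commute.all _ _).commutator_eq
  · intro hcon
    have hnt : Nontrivial (alternatingGroup X) :=
      alternatingGroup.nontrivial_of_three_le_card (by omega)
    obtain ⟨⟨σ, hσ⟩, hσ1⟩ := exists_ne (1 : alternatingGroup X)
    obtain ⟨⟨w, hw⟩, rfl⟩ := ha hσ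
    have h1 : w ∈ J := hcon ((mem_sec f).mpr ⟨hw, hσ⟩)
    rw [mem_J_iff hf hJ ha hw] at h1
    exact hσ1 (Subtype.ext h1)

theorem relIndex_sec [Nontrivial X] : 2 * J.relIndex (sec f) = (Fintype.card X).factorial := by
  rw [← Nat.card_eq_fintype_card, ← Nat.card_perm, ← two_mul_nat_card_alternatingGroup]
  congr 1
  have h1 : J = f.ker.map W.subtype := by
    rw [hf, subgroupOf_map_subtype, inf_eq_left.mpr hJ]
  rw [h1, sec, relIndex_map_map_of_injective _ _ (subtype_injective W), relIndex_ker,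
    map_comap_eq, inf_eq_right.mpr ha]

theorem relIndex_W : J.relIndex W = Nat.card f.range := by
  rw [← index_ker, hf]; rfl

theorem relIndex_W_le : J.relIndex W ≤ (Fintype.card X).factorial := by
  rw [relIndex_W hf hJ ha, ← Nat.card_eq_fintype_card, ← Nat.card_perm]
  exact Nat.le_of_dvd Nat.card_pos (card_subgroup_dvd_card _)

end hom

end Cfsg.Agent.H508.AltHom
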