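import Mathlib
import Cfsg.Agent.H508.AltHom

/-!
# Subdirect products of symmetric and alternating groups
-/

set_option autoImplicit false
set_option linter.unusedSectionVars false

namespace Cfsg.Agent.H508.AltFive

open Subgroup
open Cfsg.Agent.H508.AltSec Cfsg.Agent.H508.AltHom

section ext

variable {H M : Type*} [Group H] [Group M]

/-- Extension of a homomorphism from a supplement. -/
theorem exists_ext (D C : Subgroup H) [C.Normal] (h : D ⊔ C = ⊤) (ρ : D →* M)
    (hk : ρ.ker = C.subgroupOf D) : ∃ g : H →* M, g.ker = C ∧ g.range = ρ.range := by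
  set q : D →* H ⧸ C := (QuotientGroup.mk' C).comp D.subtype with hq
  have hdec : ∀ x : H, ∃ y : D, ∃ c ∈ C, x = y * c := by
    intro x
    have hx : x ∈ ((D ⊔ C : Subgroup H) : Set H) := by rw [h]; trivial
    rw [mul_normal] at hx
    obtain ⟨y, hy, c, hc, e⟩ := hx
    exact ⟨⟨y, hy⟩, c, hc, e.symm⟩
  have hqs : Function.Surjective q := by
    intro z
    obtain ⟨x, rfl⟩ := QuotientGroup.mk'_surjective C z
    obtain ⟨y, c, hc, rfl⟩ := hdec x
    refine ⟨y, ?_⟩
    rw [map_mul]
    have : QuotientGroup.mk' C c = 1 := by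
      rwa [← MonoidHom.mem_ker, QuotientGroup.ker_mk']
    rw [this, mul_one]
    rfl
  have hqk : q.ker = C.subgroupOf D := by
    rw [hq, ← MonoidHom.comap_ker, QuotientGroup.ker_mk']
    rfl
  set l := MonoidHom.liftOfSurjective q hqs ⟨ρ, by rw [hqk, hk]⟩ with hl
  have hlq : ∀ y : D, l (q y) = ρ y := by
    intro y
    exact MonoidHom.liftOfRightInverse_comp_apply q _ _ ⟨ρ, by rw [hqk, hk]⟩ y
  have hgD : ∀ y : D, l.comp (QuotientGroup.mk' C) y = ρ y := hlq
  have hgC : ∀ c ∈ C, l.comp (QuotientGroup.mk' C) c = 1 := by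
    intro c hc
    have : QuotientGroup.mk' C c = 1 := by
      rwa [← MonoidHom.mem_ker, QuotientGroup.ker_mk']
    rw [MonoidHom.comp_apply, this, map_one]
  refine ⟨l.comp (QuotientGroup.mk' C), ?_, ?_⟩
  · ext x
    constructor
    · intro hx
      obtain ⟨y, c, hc, rfl⟩ := hdec x
      rw [MonoidHom.mem_ker, map_mul, hgC c hc, mul_one, hgD, ← MonoidHom.mem_ker, hk,
        mem_subgroupOf] at hx
      exact mul_mem hx hc
    · intro hx
      exact hgC x hx
  · ext z
    constructor
    · rintro ⟨x, rfl⟩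
      obtain ⟨y, c, hc, rfl⟩ := hdec x
      rw [map_mul, hgC c hc, mul_one, hgD]
      exact ⟨y, rfl⟩
    · rintro ⟨y, rfl⟩
      exact ⟨y, hgD y⟩

end ext

section five

variable {H : Type*} [Group H] {X Y : Type*} [Fintype X] [DecidableEq X] [Fintype Y] [DecidableEq Y]

/-- A normal subgroup of `H` is trivial in the symmetric group or covers the alternating group. -/
theorem cover (h5 : 5 ≤ Fintype.card X) (f : H →* Equiv.Perm X) (ha : alternatingGroup X ≤ f.range)
    (N : Subgroup H) [N.Normal] (hN : ¬ N ≤ f.ker) : alternatingGroup X ≤ N.map f := by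
  have h1 : alternatingGroup X ≤ normalizer ((N.map f : Subgroup _) : Set (Equiv.Perm X)) := by
    intro σ hσ
    obtain ⟨w, rfl⟩ := ha hσ
    have h2 : w ∈ normalizer (N : Set H) := by
      rw [normalizer_eq_top]; trivial
    exact le_normalizer_map f (mem_map_of_mem f h2)
  rcases perm_key h5 h1 with h2 | h2
  · exact absurd ((map_eq_bot_iff N).mp h2) hN
  · exact h2

theorem five (h5 : 5 ≤ Fintype.card X) (h5' : 5 ≤ Fintype.card Y)
    (f : H →* Equiv.Perm X) (g : H →* Equiv.Perm Y) (hf : alternatingGroup X ≤ f.range)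
    (hg : alternatingGroup Y ≤ g.range) (hfk : f.ker ≠ ⊥) (hgk : g.ker ≠ ⊥)
    (hk : f.ker ⊓ g.ker = ⊥)
    (hexc : ¬ ((∀ x, Equiv.Perm.sign (f x) = 1) ∧ ∃ x, Equiv.Perm.sign (g x) = -1)) :
    (f.range.index = 2 ∧ Nonempty (H ≃* alternatingGroup X × alternatingGroup Y)) ∨
    (f.range = ⊤ ∧ (Nonempty (H ≃* Equiv.Perm X × Equiv.Perm Y) ∨
      Nonempty (H ≃* Equiv.Perm X × alternatingGroup Y) ∨
      Nonempty (H ≃* ((Equiv.Perm.sign.comp (MonoidHom.fst (Equiv.Perm X) (Equiv.Perm Y))) *
        (Equiv.Perm.sign.comp (MonoidHom.snd (Equiv.Perm X) (Equiv.Perm Y)))).ker))) := by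
  have hntX : Nontrivial X := Fintype.one_lt_card_iff_nontrivial.mp (by omega)
  set P : H →* Equiv.Perm X × Equiv.Perm Y := f.prod g with hP
  have hPinj : Function.Injective P := by
    rw [← MonoidHom.ker_eq_bot_iff, ← hk]
    ext x
    rw [MonoidHom.mem_ker, mem_inf, MonoidHom.mem_ker, MonoidHom.mem_ker, hP,
      MonoidHom.prod_apply, Prod.mk_eq_one]
  -- the alternating groups
  have hfN : ¬ g.ker ≤ f.ker := by
    intro h1
    rw [inf_eq_right.mpr h1] at hk
    exact hgk hk
  have hgN : ¬ f.ker ≤ g.ker := by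
    intro h1
    rw [inf_eq_left.mpr h1] at hk
    exact hfk hk
  have c1 := cover h5 f hf g.ker hfN
  have c2 := cover h5' g hg f.ker hgN
  have hAlt : ∀ x y, Equiv.Perm.sign x = 1 → Equiv.Perm.sign y = 1 → (x, y) ∈ P.range := by
    intro x y hx hy
    obtain ⟨u, hu, rfl⟩ := c1 (Equiv.Perm.mem_alternatingGroup.mpr hx)
    obtain ⟨v, hv, rfl⟩ := c2 (Equiv.Perm.mem_alternatingGroup.mpr hy)
    refine ⟨u * v, ?_⟩
    rw [hP, MonoidHom.prod_apply, map_mul, map_mul, MonoidHom.mem_ker.mp hu,
      MonoidHom.mem_ker.mp hv, mul_one, one_mul]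
  -- the range is determined by the signs
  have hdet : ∀ (w : H) (x y), Equiv.Perm.sign x = Equiv.Perm.sign (f w) →
      Equiv.Perm.sign y = Equiv.Perm.sign (g w) → (x, y) ∈ P.range := by
    intro w x y hx hy
    have h1 := hAlt (x * (f w)⁻¹) (y * (g w)⁻¹)
      (by rw [map_mul, map_inv, hx, mul_inv_cancel]) (by rw [map_mul, map_inv, hy, mul_inv_cancel])
    have h2 : (x, y) = (x * (f w)⁻¹, y * (g w)⁻¹) * P w := by
      rw [hP, MonoidHom.prod_apply, Prod.mk_mul_mk, inv_mul_cancel_right, inv_mul_cancel_right]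
    rw [h2]
    exact mul_mem h1 ⟨w, rfl⟩
  have hfst : ∀ {x y}, (x, y) ∈ P.range → x ∈ f.range := by
    rintro x y ⟨w, hw⟩
    exact ⟨w, congrArg Prod.fst hw⟩
  have hequiv : ∀ Q : Subgroup (Equiv.Perm X × Equiv.Perm Y), P.range = Q → Nonempty (H ≃* Q) := by
    rintro Q rfl
    exact ⟨MonoidHom.ofInjective hPinj⟩
  have hu : ∀ u : ℤˣ, u = 1 ∨ u = -1 := Int.units_eq_one_or
  by_cases a1 : ∃ w, Equiv.Perm.sign (f w) = -1 ∧ Equiv.Perm.sign (g w) = 1
  · obtain ⟨w1, hw1, hw1'⟩ := a1
    have hfr : f.range = ⊤ := by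
      rw [eq_top_iff]
      intro x _
      rcases hu (Equiv.Perm.sign x) with hx | hx
      · exact hfst (hAlt x 1 hx (map_one _))
      · exact hfst (hdet w1 x 1 (by rw [hx, hw1]) (by rw [hw1', map_one]))
    right
    refine ⟨hfr, ?_⟩
    by_cases a2 : ∃ w, Equiv.Perm.sign (g w) = -1
    · left
      obtain ⟨w2, hw2⟩ := a2
      have htop : P.range = ⊤ := by
        rw [eq_top_iff]
        rintro ⟨x, y⟩ -
        rcases hu (Equiv.Perm.sign y) with hy | hy
        · rcases hu (Equiv.Perm.sign x) with hx | hx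
          · exact hAlt x y hx hy
          · exact hdet w1 x y (by rw [hx, hw1]) (by rw [hy, hw1'])
        · rcases hu (Equiv.Perm.sign x * Equiv.Perm.sign (f w2)) with hx | hx
          · refine hdet w2 x y ?_ (by rw [hy, hw2])
            rcases hu (Equiv.Perm.sign x) with h1 | h1 <;>
            rcases hu (Equiv.Perm.sign (f w2)) with h2 | h2 <;> rw [h1, h2] at hx ⊢ <;>
            first | rfl | exact absurd hx (by decide)
          · refine hdet (w1 * w2) x y ?_ (by rw [hy, map_mul, map_mul, hw1', hw2, one_mul])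
            rw [map_mul, map_mul, hw1]
            rcases hu (Equiv.Perm.sign x) with h1 | h1 <;>
            rcases hu (Equiv.Perm.sign (f w2)) with h2 | h2 <;> rw [h1, h2] at hx ⊢ <;>
            first | rfl | exact absurd hx (by decide)
      obtain ⟨e⟩ := hequiv ⊤ htop
      exact ⟨e.trans Subgroup.topEquiv⟩
    · right; left
      have a2' : ∀ w, Equiv.Perm.sign (g w) = 1 := by
        intro w
        rcases hu (Equiv.Perm.sign (g w)) with h1 | h1
        · exact h1
        · exact absurd ⟨w, h1⟩ a2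
      have hr : P.range = (⊤ : Subgroup (Equiv.Perm X)).prod (alternatingGroup Y) := by
        ext ⟨x, y⟩
        rw [mem_prod]
        constructor
        · rintro ⟨w, hw⟩
          refine ⟨trivial, ?_⟩
          rw [← hw]
          exact Equiv.Perm.mem_alternatingGroup.mpr (a2' w)
        · rintro ⟨-, hy⟩
          have hy' := Equiv.Perm.mem_alternatingGroup.mp hy
          rcases hu (Equiv.Perm.sign x) with hx | hx
          · exact hAlt x y hx hy'
          · exact hdet w1 x y (by rw [hx, hw1]) (by rw [hw1']; exact hy')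
      obtain ⟨e⟩ := hequiv _ hr
      exact ⟨(e.trans (prodEquiv _ _)).trans (MulEquiv.prodCongr Subgroup.topEquiv
        (MulEquiv.refl _))⟩
  · have a1' : ∀ w, Equiv.Perm.sign (f w) = -1 → Equiv.Perm.sign (g w) = -1 := by
      intro w hw
      rcases hu (Equiv.Perm.sign (g w)) with h1 | h1
      · exact absurd ⟨w, hw, h1⟩ a1
      · exact h1
    by_cases a3 : ∃ w, Equiv.Perm.sign (f w) = -1
    · right
      obtain ⟨w3, hw3⟩ := a3
      have hw3' := a1' w3 hw3
      have a4 : ∀ w, Equiv.Perm.sign (f w) = Equiv.Perm.sign (g w) := by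
        intro w
        rcases hu (Equiv.Perm.sign (f w)) with h1 | h1
        · rcases hu (Equiv.Perm.sign (g w)) with h2 | h2
          · rw [h1, h2]
          · exfalso
            have h3 := a1' (w * w3) (by rw [map_mul, map_mul, h1, hw3, one_mul])
            rw [map_mul, map_mul, h2, hw3'] at h3
            exact absurd h3 (by decide)
        · rw [h1, a1' w h1]
      refine ⟨?_, Or.inr (Or.inr ?_)⟩
      · rw [eq_top_iff]
        intro x _
        rcases hu (Equiv.Perm.sign x) with hx | hx
        · exact hfst (hAlt x 1 hx (map_one _))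
        · exact hfst (hdet w3 x (g w3) (by rw [hx, hw3]) rfl)
      · apply hequiv
        ext ⟨x, y⟩
        rw [MonoidHom.mem_ker]
        change _ ↔ Equiv.Perm.sign x * Equiv.Perm.sign y = 1
        constructor
        · rintro ⟨w, hw⟩
          have e1 : f w = x := congrArg Prod.fst hw
          have e2 : g w = y := congrArg Prod.snd hw
          rw [← e1, ← e2, a4 w, Int.units_mul_self]
        · intro h1
          rcases hu (Equiv.Perm.sign x) with hx | hx
          · rw [hx, one_mul] at h1
            exact hAlt x y hx h1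
          · refine hdet w3 x y (by rw [hx, hw3]) ?_
            rw [hw3']
            rw [hx] at h1
            rcases hu (Equiv.Perm.sign y) with hy | hy
            · rw [hy] at h1; exact absurd h1 (by decide)
            · exact hy
    · left
      have a3' : ∀ w, Equiv.Perm.sign (f w) = 1 := by
        intro w
        rcases hu (Equiv.Perm.sign (f w)) with h1 | h1
        · exact h1
        · exact absurd ⟨w, h1⟩ a3
      have a5 : ∀ w, Equiv.Perm.sign (g w) = 1 := by
        intro w
        rcases hu (Equiv.Perm.sign (g w)) with h1 | h1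
        · exact h1
        · exact absurd ⟨a3', ⟨w, h1⟩⟩ hexc
      have hfr : f.range = alternatingGroup X := by
        refine le_antisymm ?_ hf
        rintro _ ⟨w, rfl⟩
        exact Equiv.Perm.mem_alternatingGroup.mpr (a3' w)
      refine ⟨by rw [hfr]; exact alternatingGroup.index_eq_two, ?_⟩
      have hr : P.range = (alternatingGroup X).prod (alternatingGroup Y) := by
        ext ⟨x, y⟩
        rw [mem_prod]
        constructor
        · rintro ⟨w, hw⟩
          rw [← hw]
          exact ⟨Equiv.Perm.mem_alternatingGroup.mpr (a3' w),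
            Equiv.Perm.mem_alternatingGroup.mpr (a5 w)⟩
        · rintro ⟨hx, hy⟩
          exact hAlt x y (Equiv.Perm.mem_alternatingGroup.mp hx)
            (Equiv.Perm.mem_alternatingGroup.mp hy)
      obtain ⟨e⟩ := hequiv _ hr
      exact ⟨e.trans (prodEquiv _ _)⟩

end five

end Cfsg.Agent.H508.AltFive
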