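import Mathlib
import Cfsg.Agent.H508.AltConf

/-!
# The second member of the pair
-/

set_option autoImplicit false
set_option linter.unusedSectionVars false

namespace Cfsg.Agent.H508.AltPair

open Subgroup
open Cfsg.Agent.H508.AltSec Cfsg.Agent.H508.AltConf
open scoped commutatorElement

variable {G : Type*} [Group G]

theorem cj_commutator (x : G) (X Y : Subgroup G) : cj x ⁅X, Y⁆ = ⁅cj x X, cj x Y⁆ :=
  map_commutator _ _ _

theorem cj_le_iff {x : G} {X Y : Subgroup G} : cj x X ≤ Y ↔ X ≤ cj x⁻¹ Y := by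
  rw [le_cj_iff, inv_inv]

theorem cj_inv_cj (x : G) (X : Subgroup G) : cj x⁻¹ (cj x X) = X := by
  rw [cj_cj, inv_mul_cancel, cj_one]

theorem cj_cj_inv (x : G) (X : Subgroup G) : cj x (cj x⁻¹ X) = X := by
  rw [cj_cj, mul_inv_cancel, cj_one]

theorem relIndex_cj (x : G) (X Y : Subgroup G) : (cj x X).relIndex (cj x Y) = X.relIndex Y :=
  relIndex_map_map_of_injective _ _ (MulAut.conj x).injective

theorem as_cj {W J S : Subgroup G} (h : AS W J S) (g : G) : AS (cj g W) (cj g J) (cj g S) := by
  refine ⟨cj_mono h.JS, cj_mono h.SW, norm_cj h.nJ, ?_, ?_, ?_, ?_⟩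
  · intro Y hY hn
    have h1 : cj g⁻¹ Y ≤ W := by
      have := cj_mono (x := g⁻¹) hY
      rwa [cj_inv_cj] at this
    have h2 : S ≤ normalizer ((cj g⁻¹ Y ⊔ J : Subgroup G) : Set G) := by
      have := norm_cj (x := g⁻¹) hn
      rwa [cj_sup, cj_inv_cj, cj_inv_cj] at this
    rcases h.key _ h1 h2 with h3 | h3
    · exact Or.inl (le_cj_iff.mpr h3)
    · right
      have := cj_mono (x := g) h3
      rwa [cj_sup, cj_cj_inv] at this
  · rw [← cj_commutator, ← cj_sup]
    exact cj_mono h.perf
  · rw [← cj_commutator]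
    exact cj_mono h.com
  · intro h1
    apply h.ne
    have := cj_mono (x := g⁻¹) h1
    rwa [cj_inv_cj, cj_inv_cj] at this

/-- A normal subgroup of small index covers the section. -/
theorem cover_of_small [Finite G] {W J S M Y : Subgroup G} (h : AS W J S) (hMW : M ≤ W)
    (hSM : S ≤ M ⊔ J) (hY : Y ≤ M) (hn : M ≤ normalizer (Y : Set G))
    (hc : Y.relIndex M < J.relIndex S) : S ≤ Y ⊔ J := by
  have h2 : S ≤ normalizer ((Y ⊔ J : Subgroup G) : Set G) := by
    refine hSM.trans (sup_le ?_ (le_sup_right.trans le_normalizer))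
    exact norm_sup hn (hMW.trans h.nJ)
  rcases h.key _ (hY.trans hMW) h2 with h3 | h3
  · exfalso
    have h4 : J.relIndex S ≤ J.relIndex (M ⊔ J) :=
      relIndex_le_of_le_right hSM (index_ne_zero_of_finite (H := J.subgroupOf (M ⊔ J)))
    rw [relIndex_sup_of_norm (hMW.trans h.nJ)] at h4
    have h5 : J.relIndex M ≤ Y.relIndex M :=
      relIndex_le_of_le_left h3 (index_ne_zero_of_finite (H := Y.subgroupOf M))
    exact absurd hc (not_lt.mpr (h4.trans h5))
  · exact h3

/-- The kernel of the second group is in the conjugate of the first kernel. -/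
theorem le_cj_of [Finite G] {A B K L SA : Subgroup G} {m : ℕ} (aA : AS A K SA)
    (hL : B ≤ normalizer (L : Set G)) (hKD : K ≤ A ⊓ B) (hLD : L ≤ A ⊓ B)
    (h1 : K.relIndex (A ⊓ B) ≤ m) (h2 : L.relIndex (A ⊓ B) ≤ m) (h3 : m < K.relIndex SA)
    {g : G} (hg : cj g A = B)
    (hT : (∀ X ≤ L, A ≤ normalizer (X : Set G) → X = ⊥) ∨
      (∀ X ≤ K, B ≤ normalizer (X : Set G) → X = ⊥)) : L ≤ cj g K := by
  have aJ := as_cj aA g
  rw [hg] at aJ
  have hr : (cj g K).relIndex (cj g SA) = K.relIndex SA := relIndex_cj _ _ _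
  have hLB : L ≤ B := hLD.trans inf_le_right
  by_contra hcon
  have hSL : cj g SA ≤ L ⊔ cj g K := by
    rcases aJ.key' hLB (aJ.SW.trans hL) with h4 | h4
    · exact absurd h4 hcon
    · exact h4
  have hne : ∀ X Y : Subgroup G, X.relIndex Y ≠ 0 := fun X Y =>
    index_ne_zero_of_finite (H := X.subgroupOf Y)
  rcases hT with hT | hT
  · -- the core of `L` in `A` is trivial
    have hcov : cj g SA ≤ (K ⊓ L) ⊔ cj g K := by
      refine cover_of_small aJ hLB hSL inf_le_right ?_ ?_
      · exact norm_inf ((hLD.trans inf_le_left).trans aA.nJ) le_normalizer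
      · rw [inf_relIndex_right, hr]
        exact lt_of_le_of_lt (relIndex_le_of_le_right hLD (hne _ _)) (lt_of_le_of_lt h1 h3)
    refine aJ.false_of_family (M := K ⊓ L) (inf_le_right.trans hLB) hcov
      (fun x : A => (K ⊓ L) ⊓ cj (x : G) L) (fun x => inf_le_left) ?_ ?_ ?_
    · intro x
      refine norm_inf le_normalizer ?_
      have h4 : cj (x : G) K = K := cj_eq_of_mem (aA.nJ x.2)
      have h5 : K ≤ normalizer ((cj (x : G) L : Subgroup G) : Set G) := by
        have := norm_cj (x := (x : G)) ((hKD.trans inf_le_right).trans hL)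
        rwa [h4] at this
      exact inf_le_left.trans h5
    · intro x
      rw [inf_relIndex_left, hr]
      have h4 : cj (x : G) K = K := cj_eq_of_mem (aA.nJ x.2)
      have h5 : (cj (x : G) L).relIndex K = L.relIndex K := by
        conv_lhs => rw [← h4]
        exact relIndex_cj _ _ _
      have h6 : (cj (x : G) L).relIndex (K ⊓ L) ≤ (cj (x : G) L).relIndex K :=
        relIndex_le_of_le_right inf_le_left (hne _ _)
      have h7 : L.relIndex K ≤ L.relIndex (A ⊓ B) := relIndex_le_of_le_right hKD (hne _ _)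
      rw [h5] at h6
      exact lt_of_le_of_lt (h6.trans (h7.trans h2)) h3
    · have h4 : coreIn A L = ⊥ := hT _ (coreIn_le A L) (norm_coreIn A L)
      refine le_trans ?_ (bot_le : ⊥ ≤ cj g K)
      rw [← h4]
      refine inf_le_right.trans ?_
      exact iInf_mono fun x => inf_le_right
  · -- the core of `K` in `B` is trivial
    refine aJ.false_of_family (M := L) hLB hSL
      (fun x : B => L ⊓ cj (x : G) K) (fun x => inf_le_left) ?_ ?_ ?_
    · intro x
      refine norm_inf le_normalizer ?_
      have h4 : cj (x : G) L = L := cj_eq_of_mem (hL x.2)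
      have := norm_cj (x := (x : G)) ((hLD.trans inf_le_left).trans aA.nJ)
      rwa [h4] at this
    · intro x
      rw [inf_relIndex_left, hr]
      have h4 : cj (x : G) L = L := cj_eq_of_mem (hL x.2)
      have h5 : (cj (x : G) K).relIndex L = K.relIndex L := by
        conv_lhs => rw [← h4]
        exact relIndex_cj _ _ _
      have h7 : K.relIndex L ≤ K.relIndex (A ⊓ B) := relIndex_le_of_le_right hLD (hne _ _)
      rw [h5]
      exact lt_of_le_of_lt (h7.trans h1) h3
    · have h4 : coreIn B K = ⊥ := hT _ (coreIn_le B K) (norm_coreIn B K)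
      refine le_trans ?_ (bot_le : ⊥ ≤ cj g K)
      rw [← h4]
      refine inf_le_right.trans ?_
      exact iInf_mono fun x => inf_le_right

end Cfsg.Agent.H508.AltPair
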