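import Mathlib
import Cfsg.Agent.H508.AltPair

/-!
# The structure of the first group of the pair
-/

set_option autoImplicit false
set_option linter.unusedSectionVars false

namespace Cfsg.Agent.H508.AltFinal

open Subgroup
open Cfsg.Agent.H508.AltSec Cfsg.Agent.H508.AltConf Cfsg.Agent.H508.AltPair
open scoped commutatorElement

variable {G : Type*} [Group G] [Finite G] {A B K L SA SB SD SE : Subgroup G} {s t : ℕ}

theorem conf_symm (h : Conf A B K L SA SB SD SE s t) (hL : L ≠ ⊥) :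
    Conf B A L K SB SA SE SD s t where
  aA := h.aB
  aB := h.aA
  aD := by rw [inf_comm]; exact h.aE
  aE := by rw [inf_comm]; exact h.aD
  cA := h.cB
  cB := h.cA
  cD := h.cE
  cE := h.cD
  uA := h.uB
  uB := h.uA
  uD := by rw [inf_comm]; exact h.uE
  uE := by rw [inf_comm]; exact h.uD
  st := h.st
  ts := h.ts
  s1 := h.s1
  maxA := by rw [inf_comm]; exact h.maxB
  maxB := by rw [inf_comm]; exact h.maxA
  conj := by
    obtain ⟨x, hx⟩ := h.conj
    exact ⟨x⁻¹, by rw [← hx, cj_inv_cj]⟩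
  fit := by rw [inf_comm]; exact h.fit
  cf := by
    rw [inf_comm]
    exact fun X h1 h2 h3 => h.cf X h1 h3 h2
  K1 := hL

/-- Both kernels are nontrivial and disjoint. -/
theorem inf_eq_bot' (h : Conf A B K L SA SB SD SE s t)
    (hT : (∀ X ≤ L, A ≤ normalizer (X : Set G) → X = ⊥) ∨
      (∀ X ≤ K, B ≤ normalizer (X : Set G) → X = ⊥)) : K ⊓ L = ⊥ := by
  rcases hT with hT | hT
  · exact h.inf_eq_bot hT
  · have hL : L ≠ ⊥ := fun h1 => h.not_LK (h1 ▸ bot_le)
    rw [inf_comm]
    exact (conf_symm h hL).inf_eq_bot hT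

theorem C_facts (h : Conf A B K L SA SB SD SE s t) (hKL : K ⊓ L = ⊥) :
    A ≤ normalizer ((A ⊓ centralizer (K : Set G) : Subgroup G) : Set G) ∧
    (A ⊓ centralizer (K : Set G)) ⊓ K = ⊥ ∧
    SA ≤ (A ⊓ centralizer (K : Set G)) ⊔ K ∧
    (A ⊓ B) ⊓ (A ⊓ centralizer (K : Set G)) = L ∧
    (A ⊓ B) ⊔ (A ⊓ centralizer (K : Set G)) = A := by
  set C : Subgroup G := A ⊓ centralizer (K : Set G) with hC
  have hKD := h.KD
  have hLD := h.LD
  have hDK : A ⊓ B ≤ normalizer (K : Set G) := inf_le_left.trans h.aA.nJ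
  have hDL : A ⊓ B ≤ normalizer (L : Set G) := inf_le_right.trans h.aB.nJ
  have hCn : A ≤ normalizer (C : Set G) := norm_inf le_normalizer (norm_centralizer h.aA.nJ)
  have hL : L ≠ ⊥ := fun h1 => h.not_LK (h1 ▸ bot_le)
  have hLC : L ≤ C := by
    refine le_inf (hLD.trans inf_le_left) ?_
    rw [← commutator_eq_bot_iff_le_centralizer]
    refine comm_eq_bot (hLD.trans hDK) (hKD.trans hDL) ?_
    rw [inf_comm, hKL]
  have hCK : C ⊓ K = ⊥ := by
    refine h.fit _ (inf_le_right.trans hKD) (norm_inf (inf_le_left.trans hCn) hDK) ?_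
    rw [commutator_eq_bot_iff_le_centralizer]
    exact (inf_le_left.trans inf_le_right : C ⊓ K ≤ centralizer (K : Set G)).trans
      (centralizer_le (show ((C ⊓ K : Subgroup G) : Set G) ⊆ K from inf_le_right))
  have hCnotK : ¬ C ≤ K := by
    intro h1
    apply hL
    rw [eq_bot_iff, ← hCK]
    exact le_inf hLC (hLC.trans h1)
  have hSA : SA ≤ C ⊔ K := by
    rcases h.aA.key' (inf_le_left : C ≤ A) (h.aA.SW.trans hCn) with h1 | h1
    · exact absurd h1 hCnotK
    · exact h1
  refine ⟨hCn, hCK, hSA, ?_, ?_⟩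
  · apply le_antisymm
    · have hE : A ⊓ B ≤ normalizer ((A ⊓ B ⊓ C : Subgroup G) : Set G) :=
        norm_inf le_normalizer (inf_le_left.trans hCn)
      rcases h.aE.key' (inf_le_left : A ⊓ B ⊓ C ≤ A ⊓ B) (h.aE.SW.trans hE) with h1 | h1
      · exact h1
      · exfalso
        rw [sup_eq_left.mpr (le_inf hLD hLC)] at h1
        have h2 : K ≤ L := by
          refine h.aE.le_of_comm hKD ?_
          have h3 : ⁅K, SE⁆ = ⊥ := by
            rw [commutator_comm, commutator_eq_bot_iff_le_centralizer]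
            exact h1.trans (inf_le_right.trans inf_le_right)
          rw [h3]
          exact bot_le
        rw [inf_eq_left.mpr h2] at hKL
        exact h.K1 hKL
    · exact le_inf hLD hLC
  · rcases h.maxA ((A ⊓ B) ⊔ C) le_sup_left (sup_le inf_le_left inf_le_left) with h1 | h1
    · exfalso
      have h2 : C ≤ A ⊓ B := by rw [← h1]; exact le_sup_right
      have h3 : SA ≤ A ⊓ B := hSA.trans (sup_le h2 hKD)
      have h4 := relIndex_le_of_le_right (H := K) h3 (Conf.relIndex_ne _ _)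
      rw [h.cA] at h4
      have h5 := h.uD
      have h6 := h.st
      omega
    · exact h1

/-- The excluded case. -/
theorem excluded (h : Conf A B K L SA SB SD SE s t) (hKL : K ⊓ L = ⊥) {d : ℕ}
    (hAD : d * Nat.card (A ⊓ B : Subgroup G) = Nat.card A) (hts : t = d * s)
    (hα : K.relIndex A = t) (hβ : L.relIndex (A ⊓ B) = 2 * s) : False := by
  obtain ⟨hCn, hCK, hSA, hDC, hDA⟩ := C_facts h hKL
  set C : Subgroup G := A ⊓ centralizer (K : Set G) with hC
  have hKD := h.KD
  have hLD := h.LD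
  have hKA : K ≤ A := hKD.trans inf_le_left
  have hLB : L ≤ B := hLD.trans inf_le_right
  have hCA : C ≤ A := inf_le_left
  have s1 := h.s1
  have st := h.st
  -- `A = S_A`
  have hSAA : SA = A := by
    refine eq_of_le_of_card_ge h.aA.SW ?_
    have h1 := Conf.card_mul K A
    have h2 := Conf.card_mul K SA
    rw [inf_eq_left.mpr hKA, hα] at h1
    rw [inf_eq_left.mpr h.aA.JS, h.cA] at h2
    rw [← h1, ← h2]
  have hCKA : C ⊔ K = A := le_antisymm (sup_le hCA hKA) (hSAA ▸ hSA)
  have hcC : Nat.card C = t := by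
    have h1 := Conf.card_mul K C
    rw [inf_comm, hCK, card_bot, mul_one, ← relIndex_sup_of_norm (hCA.trans h.aA.nJ), hCKA, hα] at h1
    exact h1.symm
  have hcA : Nat.card A = 2 * s * t := by
    have h1 := Conf.card_mul C A
    rw [inf_eq_left.mpr hCA, hcC] at h1
    have h2 : C.relIndex A = 2 * s := by
      have h3 : C.relIndex ((A ⊓ B) ⊔ C) = C.relIndex (A ⊓ B) :=
        relIndex_sup_of_norm (inf_le_left.trans hCn)
      rw [hDA] at h3
      rw [h3, ← hβ, ← inf_relIndex_right, inf_comm, hDC]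
    rw [← h1, h2]
  have ht0 : 0 < t := by omega
  have hcK : Nat.card K = 2 * s := by
    have h1 := Conf.card_mul K A
    rw [inf_eq_left.mpr hKA, hα, hcA, mul_comm (2 * s)] at h1
    exact Nat.eq_of_mul_eq_mul_left ht0 h1
  have hcL : Nat.card L = s := by
    have h1 := Conf.card_mul L (A ⊓ B)
    rw [inf_eq_left.mpr hLD, hβ] at h1
    rw [← h1, hcA, hts] at hAD
    have hd : 0 < d := by
      rcases Nat.eq_zero_or_pos d with h0 | h0
      · rw [h0, zero_mul] at hts; omega
      · exact h0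
    have h2 : (d * (2 * s)) * Nat.card L = (d * (2 * s)) * s := by
      rw [← mul_assoc] at hAD
      rw [hAD]; ring
    exact Nat.eq_of_mul_eq_mul_left (Nat.mul_pos hd (by omega)) h2
  -- conjugates
  obtain ⟨x, hx⟩ := h.conj
  have hCn' : B ≤ normalizer ((cj x C : Subgroup G) : Set G) := by
    rw [← hx]; exact norm_cj hCn
  have hKn' : B ≤ normalizer ((cj x K : Subgroup G) : Set G) := by
    rw [← hx]; exact norm_cj h.aA.nJ
  have hCB : cj x C ≤ B := by rw [← hx]; exact cj_mono hCA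
  have hKB : cj x K ≤ B := by rw [← hx]; exact cj_mono hKA
  have hCKB : cj x C ⊔ cj x K = B := by rw [← cj_sup, hCKA, hx]
  have hCK' : cj x C ⊓ cj x K = ⊥ := by
    rw [← cj_inf, hCK]; exact map_bot _
  have hCL : cj x C ⊓ L = ⊥ := by
    have hXn : A ≤ normalizer ((cj x⁻¹ (cj x C ⊓ L) : Subgroup G) : Set G) := by
      have h1 := norm_cj (x := x⁻¹) (norm_inf hCn' h.aB.nJ)
      rwa [← hx, cj_inv_cj] at h1
    have hXC : cj x⁻¹ (cj x C ⊓ L) ≤ C := by
      have h1 := cj_mono (x := x⁻¹) (inf_le_left : cj x C ⊓ L ≤ cj x C)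
      rwa [cj_inv_cj] at h1
    rcases h.aA.key' (hXC.trans hCA) (h.aA.SW.trans hXn) with h1 | h1
    · have h2 : cj x⁻¹ (cj x C ⊓ L) = ⊥ := by
        rw [eq_bot_iff, ← hCK]
        exact le_inf hXC h1
      have h3 := congrArg (cj x) h2
      rw [cj_cj_inv] at h3
      rw [h3]; exact map_bot _
    · exfalso
      have h2 := relIndex_le_of_le_right (H := K) h1 (Conf.relIndex_ne _ _)
      rw [h.cA, relIndex_sup_of_norm ((hXC.trans hCA).trans h.aA.nJ)] at h2
      have h3 : K.relIndex (cj x⁻¹ (cj x C ⊓ L)) ≤ Nat.card (cj x⁻¹ (cj x C ⊓ L)) :=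
        Nat.le_of_dvd Nat.card_pos (relIndex_dvd_card _ _)
      rw [card_cj] at h3
      have h4 : Nat.card (cj x C ⊓ L : Subgroup G) ≤ Nat.card L := card_le_of_le inf_le_right
      omega
  have hcomm : ⁅cj x C, L⁆ = ⊥ :=
    comm_eq_bot (hCB.trans h.aB.nJ) (hLB.trans hCn') hCL.le
  have hLK : L ≤ cj x K := by
    rw [le_cj_iff]
    have hZA : cj x⁻¹ L ≤ A := by
      have h1 := cj_mono (x := x⁻¹) hLB
      rwa [← hx, cj_inv_cj] at h1
    refine h.aA.le_of_comm hZA ?_
    refine (commutator_mono le_rfl hSA).trans ?_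
    refine comm_sup_right (hCA.trans h.aA.nJ) le_normalizer ?_ ?_
    · have h1 := congrArg (cj x⁻¹) hcomm
      rw [cj_commutator, cj_inv_cj] at h1
      rw [commutator_comm, h1, cj, Subgroup.map_bot]
      exact bot_le
    · exact le_normalizer_iff_commutator_le_right.mp (hZA.trans h.aA.nJ)
  have hKK : ⁅cj x K, cj x K⁆ ≤ L := by
    have h1 : (L.subgroupOf (cj x K)).index = 2 := by
      have h2 := Conf.card_mul L (cj x K)
      rw [inf_eq_left.mpr hLK, card_cj, hcK, hcL] at h2
      have h3 : L.relIndex (cj x K) = 2 :=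
        Nat.eq_of_mul_eq_mul_right (show 0 < s by omega) h2
      exact h3
    rw [commutator_le]
    intro y hy z hz
    have h2 : (⟨y, hy⟩ : (cj x K : Subgroup G)) * ⟨z, hz⟩ * ⟨y, hy⟩⁻¹ * ⟨z, hz⟩⁻¹ ∈
        L.subgroupOf (cj x K) := by
      simp only [mul_mem_iff_of_index_two h1, inv_mem_iff]
      tauto
    exact h2
  have hfin : cj x K ≤ L := by
    refine h.aB.le_of_comm hKB ?_
    have hSB : SB ≤ cj x C ⊔ cj x K := by rw [hCKB]; exact h.aB.SW
    refine (commutator_mono le_rfl hSB).trans ?_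
    refine comm_sup_right (hCB.trans h.aB.nJ) (hKB.trans h.aB.nJ) ?_ hKK
    rw [comm_eq_bot (hKB.trans hCn') (hCB.trans hKn') (by rw [inf_comm, hCK'])]
    exact bot_le
  have h1 := card_le_of_le hfin
  rw [card_cj, hcK, hcL] at h1
  omega

end Cfsg.Agent.H508.AltFinal
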