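import Mathlib
import Cfsg.Agent.H508.AltHom

/-!
# Subgroups inducing the alternating group on a set
-/

set_option autoImplicit false
set_option linter.unusedSectionVars false

namespace Cfsg.Agent.H508.AltOrbit

open Subgroup MulAction
open Cfsg.Agent.H508.AltSec Cfsg.Agent.H508.AltHom

variable {G Ω : Type*} [Group G] [MulAction G Ω]

/-- `s` is invariant under `W`. -/
def Inv (W : Subgroup G) (s : Set Ω) : Prop := ∀ w ∈ W, ∀ c ∈ s, w • c ∈ s

/-- The permutation representation of `W` on the invariant set `s`. -/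
def rho (W : Subgroup G) (s : Set Ω) (h : Inv W s) : W →* Equiv.Perm s where
  toFun w :=
    { toFun := fun c => ⟨(w : G) • (c : Ω), h w w.2 c c.2⟩
      invFun := fun c => ⟨(w : G)⁻¹ • (c : Ω), h _ (inv_mem w.2) c c.2⟩
      left_inv := fun c => Subtype.ext (inv_smul_smul _ _)
      right_inv := fun c => Subtype.ext (smul_inv_smul _ _) }
  map_one' := by
    ext c
    exact one_smul _ _
  map_mul' x y := by
    ext c
    exact mul_smul _ _ _

theorem rho_apply {W : Subgroup G} {s : Set Ω} (h : Inv W s) (w : W) (c : s) :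
    ((rho W s h w c : s) : Ω) = (w : G) • (c : Ω) := rfl

theorem ker_rho {W : Subgroup G} {s : Set Ω} (h : Inv W s) :
    (rho W s h).ker = (fixingSubgroup G s).subgroupOf W := by
  ext w
  rw [MonoidHom.mem_ker, mem_subgroupOf, mem_fixingSubgroup_iff]
  constructor
  · intro h1 c hc
    exact congrArg (fun f : Equiv.Perm s => ((f ⟨c, hc⟩ : s) : Ω)) h1
  · intro h1
    ext c
    exact h1 c c.2

/-- `W` induces each even permutation of `s`. -/
def AltOn (W : Subgroup G) (s : Set Ω) [Fintype s] [DecidableEq s] : Prop :=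
  ∀ σ : Equiv.Perm s, Equiv.Perm.sign σ = 1 → ∃ w ∈ W, ∀ c : s, w • (c : Ω) = σ c

section

variable {W : Subgroup G} {s : Set Ω} [Fintype s] [DecidableEq s]

theorem AltOn.le_range (h : AltOn W s) (hi : Inv W s) :
    alternatingGroup s ≤ (rho W s hi).range := by
  intro σ hσ
  obtain ⟨w, hw, hc⟩ := h σ (Equiv.Perm.mem_alternatingGroup.mp hσ)
  refine ⟨⟨w, hw⟩, ?_⟩
  ext c
  exact hc c

theorem altOn_of_le_range (hi : Inv W s) (h : alternatingGroup s ≤ (rho W s hi).range) :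
    AltOn W s := by
  intro σ hσ
  obtain ⟨w, rfl⟩ := h (Equiv.Perm.mem_alternatingGroup.mpr hσ)
  exact ⟨w, w.2, fun c => rfl⟩

/-- The stabiliser of a point. -/
theorem AltOn.stab (h : AltOn W s) {b : Ω} (hb : b ∈ s) [Fintype (s \ {b} : Set Ω)]
    [DecidableEq (s \ {b} : Set Ω)] : AltOn (W ⊓ stabilizer G b) (s \ {b}) := by
  classical
  intro σ hσ
  set e : (s \ {b} : Set Ω) ≃ {c : s // (c : Ω) ≠ b} :=
    { toFun := fun c => ⟨⟨c, c.2.1⟩, c.2.2⟩
      invFun := fun c => ⟨c.1, c.1.2, c.2⟩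
      left_inv := fun c => rfl
      right_inv := fun c => rfl } with he
  obtain ⟨w, hw, hc⟩ := h (σ.extendDomain e) (by rw [Equiv.Perm.sign_extendDomain, hσ])
  refine ⟨w, mem_inf.mpr ⟨hw, mem_stabilizer_iff.mpr ?_⟩, ?_⟩
  · have h1 := hc ⟨b, hb⟩
    rw [Equiv.Perm.extendDomain_apply_not_subtype _ _ (by simp)] at h1
    exact h1
  · intro c
    have h1 := hc ⟨c, c.2.1⟩
    have h2 : (⟨(c : Ω), c.2.1⟩ : s) = ((e c : {c : s // (c : Ω) ≠ b}) : s) := rfl
    rw [h2, Equiv.Perm.extendDomain_apply_image] at h1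
    exact h1

theorem AltOn.trans (h : AltOn W s) (h3 : 3 ≤ Fintype.card s) {c e : Ω} (hc : c ∈ s) (he : e ∈ s) :
    ∃ w ∈ W, w • c = e := by
  by_cases hce : c = e
  · exact ⟨1, one_mem W, by rw [one_smul, hce]⟩
  have h1 : ({⟨c, hc⟩, ⟨e, he⟩} : Finset s).card < (Finset.univ : Finset s).card := by
    rw [Finset.card_univ]
    exact lt_of_le_of_lt (Finset.card_le_two) (by omega)
  obtain ⟨f, -, hf⟩ := Finset.exists_mem_notMem_of_card_lt_card h1
  simp only [Finset.mem_insert, Finset.mem_singleton, not_or] at hf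
  have hne : (⟨c, hc⟩ : s) ≠ ⟨e, he⟩ := fun h => hce (congrArg Subtype.val h)
  obtain ⟨w, hw, hw1⟩ := h (Equiv.swap ⟨c, hc⟩ ⟨e, he⟩ * Equiv.swap ⟨e, he⟩ f) (by
    rw [Equiv.Perm.sign_mul, Equiv.Perm.sign_swap hne, Equiv.Perm.sign_swap (Ne.symm hf.2)]
    rfl)
  refine ⟨w, hw, ?_⟩
  have h2 := hw1 ⟨c, hc⟩
  rw [Equiv.Perm.mul_apply, Equiv.swap_apply_of_ne_of_ne hne (Ne.symm hf.1),
    Equiv.swap_apply_left] at h2
  exact h2

/-- The maximality of the point stabiliser. -/
theorem AltOn.max (h : AltOn W s) (hi : Inv W s) (h4 : 4 ≤ Fintype.card s) {b : Ω} (hb : b ∈ s)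
    {M : Subgroup G} (hDM : W ⊓ stabilizer G b ≤ M) (hMW : M ≤ W) :
    M = W ⊓ stabilizer G b ∨ M = W := by
  classical
  by_cases hM : M ≤ stabilizer G b
  · exact Or.inl (le_antisymm (le_inf hMW hM) hDM)
  right
  refine le_antisymm hMW ?_
  obtain ⟨m, hm, hmb⟩ := SetLike.not_le_iff_exists.mp hM
  rw [mem_stabilizer_iff] at hmb
  have hD := h.stab hb
  have h3 : 3 ≤ Fintype.card (s \ {b} : Set Ω) := by
    have h5 := Set.ncard_sdiff_singleton_of_mem (s := s) hb
    rw [← Nat.card_eq_fintype_card, Nat.card_coe_set_eq, h5, ← Nat.card_coe_set_eq,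
      Nat.card_eq_fintype_card]
    omega
  have hms : m • b ∈ (s \ {b} : Set Ω) := ⟨hi m (hMW hm) b hb, hmb⟩
  intro x hx
  by_cases hxb : x • b = b
  · exact hDM ⟨hx, hxb⟩
  · obtain ⟨y, hy, hyx⟩ := hD.trans h3 hms (show x • b ∈ (s \ {b} : Set Ω) from
      ⟨hi x hx b hb, hxb⟩)
    have h6 : x⁻¹ * (y * m) ∈ M := by
      apply hDM
      refine mem_inf.mpr ⟨W.mul_mem (W.inv_mem hx) (W.mul_mem hy.1 (hMW hm)),
        mem_stabilizer_iff.mpr ?_⟩
      rw [mul_smul, mul_smul, hyx, inv_smul_smul]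
    have h7 : x = (y * m) * (x⁻¹ * (y * m))⁻¹ := by group
    rw [h7]
    exact M.mul_mem (M.mul_mem (hDM hy) hm) (M.inv_mem h6)

/-- The alternating section. -/
theorem AltOn.exists_as (h : AltOn W s) (hi : Inv W s) (h5 : 5 ≤ Fintype.card s) {J : Subgroup G}
    (hJW : J ≤ W) (hJ : ∀ w ∈ W, w ∈ J ↔ ∀ c ∈ s, w • c = c) :
    ∃ S : Subgroup G, AS W J S ∧ 2 * J.relIndex S = (Fintype.card s).factorial ∧
      J.relIndex W ≤ (Fintype.card s).factorial := by
  have hk : (rho W s hi).ker = J.subgroupOf W := by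
    rw [ker_rho]
    ext ⟨w, hw⟩
    rw [mem_subgroupOf, mem_subgroupOf, mem_fixingSubgroup_iff, hJ w hw]
  have hr := h.le_range hi
  have hnt : Nontrivial s := Fintype.one_lt_card_iff_nontrivial.mp (by omega)
  exact ⟨sec (rho W s hi), as_sec hk hJW hr h5, relIndex_sec hk hJW hr, relIndex_W_le hk hJW hr⟩

theorem relIndex_le (hi : Inv W s) {J : Subgroup G}
    (hJ : ∀ w ∈ W, w ∈ J ↔ ∀ c ∈ s, w • c = c) :
    J.relIndex W ≤ (Fintype.card s).factorial := by
  have hk : (rho W s hi).ker = J.subgroupOf W := by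
    rw [ker_rho]
    ext ⟨w, hw⟩
    rw [mem_subgroupOf, mem_subgroupOf, mem_fixingSubgroup_iff, hJ w hw]
  have h1 : Nat.card (rho W s hi).range = J.relIndex W := by
    rw [← index_ker, hk]; rfl
  rw [← h1, ← Nat.card_eq_fintype_card, ← Nat.card_perm]
  exact Nat.le_of_dvd Nat.card_pos (card_subgroup_dvd_card _)

/-- A group of large index over the kernel induces the alternating group. -/
theorem altOn_of_relIndex (hi : Inv W s) {J : Subgroup G}
    (hJ : ∀ w ∈ W, w ∈ J ↔ ∀ c ∈ s, w • c = c)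
    (hc : (Fintype.card s).factorial ≤ 2 * J.relIndex W) : AltOn W s := by
  have hk : (rho W s hi).ker = J.subgroupOf W := by
    rw [ker_rho]
    ext ⟨w, hw⟩
    rw [mem_subgroupOf, mem_subgroupOf, mem_fixingSubgroup_iff, hJ w hw]
  refine altOn_of_le_range hi ?_
  apply Equiv.Perm.alternatingGroup_le_of_index_le_two
  have h1 : Nat.card (rho W s hi).range = J.relIndex W := by
    rw [← index_ker, hk]; rfl
  have h2 := (rho W s hi).range.index_mul_card
  rw [h1, Nat.card_perm, Nat.card_eq_fintype_card] at h2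
  rw [← h2] at hc
  have h3 : 0 < J.relIndex W := by
    rw [← h1]; exact Nat.card_pos
  exact Nat.le_of_mul_le_mul_right hc h3

end

end Cfsg.Agent.H508.AltOrbit
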