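import Mathlib
import Cfsg.Agent.H508.AltMain
import Cfsg.Agent.H508.AltFinal
import Cfsg.Agent.H508.AltFive

/-!
# The structure of the point stabiliser
-/

set_option autoImplicit false
set_option linter.unusedSectionVars false

namespace Cfsg.Agent.H508.AltStab

open Subgroup MulAction Cfsg
open Cfsg.Agent.H508.AltSec Cfsg.Agent.H508.AltConf Cfsg.Agent.H508.AltPair
open Cfsg.Agent.H508.AltOrbit Cfsg.Agent.H508.AltMain Cfsg.Agent.H508.AltFinal
open Cfsg.Agent.H508.AltFive
open Cfsg.Agent.H429.Suborbit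

variable {G Ω : Type*} [Group G] [MulAction G Ω] [Finite Ω] [Finite G] [FaithfulSMul G Ω]

noncomputable local instance instFt (s : Set Ω) : Fintype s := Fintype.ofFinite s
noncomputable local instance instDe (s : Set Ω) : DecidableEq s := Classical.decEq s

theorem structure_thm (hprim : IsPreprimitive G Ω) (a b : Ω) (d : ℕ)
    (hd : Nat.card (orbit (stabilizer G a) b) = d) (h6 : 6 ≤ d)
    (halt : (toPermHom (stabilizer G a) (orbit (stabilizer G a) b)).range.index ≤ 2)
    (hunf : ¬ Function.Injective (toPermHom (stabilizer G a) (orbit (stabilizer G a) b))) :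
    ((toPermHom (stabilizer G a) (orbit (stabilizer G a) b)).range.index = 2 ∧
      Nonempty (stabilizer G a ≃* alternatingGroup (Fin d) × alternatingGroup (Fin (d - 1)))) ∨
    ((toPermHom (stabilizer G a) (orbit (stabilizer G a) b)).range = ⊤ ∧
      (Nonempty (stabilizer G a ≃* Equiv.Perm (Fin d) × Equiv.Perm (Fin (d - 1))) ∨
       Nonempty (stabilizer G a ≃* Equiv.Perm (Fin d) × alternatingGroup (Fin (d - 1))) ∨
       Nonempty (stabilizer G a ≃*
        ((Equiv.Perm.sign.comp (MonoidHom.fst (Equiv.Perm (Fin d)) (Equiv.Perm (Fin (d - 1))))) *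
         (Equiv.Perm.sign.comp
          (MonoidHom.snd (Equiv.Perm (Fin d)) (Equiv.Perm (Fin (d - 1)))))).ker))) := by
  have hd0 : Nat.card (Orb G a b) = d := hd
  have h6' : 6 ≤ Nat.card (Orb G a b) := by rw [hd0]; exact h6
  have hdb : Nat.card (Orb G b a) = d := by rw [← hd0]; exact card_orbit_eq a b
  have hA : AltOn (stabilizer G a) (Orb G a b) := by
    refine altOn_of_le_range (inv_orb a b) ?_
    rw [rho_eq]
    exact Equiv.Perm.alternatingGroup_le_of_index_le_two halt
  have hK : (K a b : Subgroup G) ≠ ⊥ := by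
    intro h1
    apply hunf
    rw [← MonoidHom.ker_eq_bot_iff]
    rw [← ker_toPermHom] at h1
    exact (map_eq_bot_iff_of_injective _ (subtype_injective _)).mp h1
  have hB := altOn_paired hprim h6' hA hK
  obtain ⟨SA, SB, SD, SE, s, t, h, hs, ht⟩ := exists_conf hprim h6' hA hB hK
  have hT := core_alt hprim h6' hA hK
  have hKL := inf_eq_bot' h hT
  have hL : (K b a : Subgroup G) ≠ ⊥ := fun h1 => h.not_LK (h1 ▸ bot_le)
  obtain ⟨hCn, hCK, hSA, hDC, hDA⟩ := C_facts h hKL
  rw [hd0] at hs ht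
  set A := stabilizer G a with hAdef
  set B := stabilizer G b with hBdef
  set C : Subgroup G := A ⊓ centralizer ((K a b : Subgroup G) : Set G) with hC
  have hCA : C ≤ A := inf_le_left
  -- the second homomorphism
  set D' : Subgroup A := B.subgroupOf A with hD'
  set C' : Subgroup A := C.subgroupOf A with hC'
  have hC'n : C'.Normal := by
    rw [hC', normal_subgroupOf_iff_le_normalizer hCA]; exact hCn
  have hD'C' : D' ⊔ C' = ⊤ := by
    rw [hD', hC', ← inf_subgroupOf_left, ← subgroupOf_sup inf_le_left hCA, hDA, subgroupOf_self]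
  set Γ : Set Ω := Orb G b a \ {a} with hΓ
  have hinv : Inv (B ⊓ A) Γ := inv_sdiff (inv_orb b a) a
  have hmemBA : ∀ x : D', ((x : A) : G) ∈ B ⊓ A := fun x => ⟨x.2, (x : A).2⟩
  set ι : D' →* (B ⊓ A : Subgroup G) :=
    { toFun := fun x => ⟨((x : A) : G), hmemBA x⟩
      map_one' := rfl
      map_mul' := fun _ _ => rfl } with hι
  set ρ : D' →* Equiv.Perm Γ := (rho (B ⊓ A) Γ hinv).comp ι with hρ
  have hLmem : ∀ w ∈ B ⊓ A, w ∈ (K b a : Subgroup G) ↔ ∀ c ∈ Γ, w • c = c :=
    fun w hw => mem_K_iff' hw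
  have hρk : ρ.ker = C'.subgroupOf D' := by
    ext x
    have h1 : ρ x = 1 ↔ ((x : A) : G) ∈ (K b a : Subgroup G) := by
      rw [hLmem _ (hmemBA x)]
      constructor
      · intro h2 c hc
        exact congrArg (fun f : Equiv.Perm Γ => ((f ⟨c, hc⟩ : Γ) : Ω)) h2
      · intro h2
        ext c
        exact h2 c c.2
    rw [MonoidHom.mem_ker, h1, ← hDC, mem_subgroupOf, mem_subgroupOf, mem_inf, mem_inf]
    exact ⟨fun h2 => h2.2, fun h2 => ⟨⟨(x : A).2, x.2⟩, h2⟩⟩
  obtain ⟨g, hgk, hgr⟩ := exists_ext D' C' hD'C' ρ hρk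
  have hρalt : alternatingGroup Γ ≤ ρ.range := by
    intro σ hσ
    obtain ⟨⟨w, hw⟩, hwσ⟩ := (hB.stab (mem_orbit_self a)).le_range hinv hσ
    exact ⟨⟨⟨w, hw.2⟩, hw.1⟩, hwσ⟩
  -- cardinalities
  have hcΔ : Nat.card (orbit A b) = Nat.card (Fin d) := by rw [hd, Nat.card_fin]
  have hcΓ : Nat.card Γ = Nat.card (Fin (d - 1)) := by
    rw [Nat.card_fin, ← hdb, ← card_sdiff (mem_orbit_self a : a ∈ Orb G b a), card_ft]
  obtain ⟨e1⟩ := Finite.card_eq.mp hcΔ
  obtain ⟨e2⟩ := Finite.card_eq.mp hcΓ
  have hntX : Nontrivial (Fin d) := Fin.nontrivial_iff_two_le.mpr (by omega)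
  have hntY : Nontrivial (Fin (d - 1)) := Fin.nontrivial_iff_two_le.mpr (by omega)
  have hntΓ : Nontrivial Γ := e2.nontrivial
  set φ := toPermHom A (orbit A b) with hφ
  set f : A →* Equiv.Perm (Fin d) := (e1.permCongrHom.toMonoidHom).comp φ with hf
  set g' : A →* Equiv.Perm (Fin (d - 1)) := (e2.permCongrHom.toMonoidHom).comp g with hg'
  have hfr : f.range = φ.range.map e1.permCongrHom.toMonoidHom := by
    rw [hf, MonoidHom.range_comp]
  have hgr' : g'.range = g.range.map e2.permCongrHom.toMonoidHom := by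
    rw [hg', MonoidHom.range_comp]
  have hfi : f.range.index = φ.range.index := by
    rw [hfr]; exact index_map_equiv _ e1.permCongrHom
  have hgi : g'.range.index = g.range.index := by
    rw [hgr']; exact index_map_equiv _ e2.permCongrHom
  have hfalt : alternatingGroup (Fin d) ≤ f.range :=
    Equiv.Perm.alternatingGroup_le_of_index_le_two (by rw [hfi]; exact halt)
  have hgalt : alternatingGroup (Fin (d - 1)) ≤ g'.range := by
    apply Equiv.Perm.alternatingGroup_le_of_index_le_two
    rw [hgi, hgr]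
    have h1 := index_dvd_of_le hρalt
    rw [alternatingGroup.index_eq_two] at h1
    exact Nat.le_of_dvd (by omega) h1
  have hfk : f.ker = φ.ker := by
    ext x
    rw [MonoidHom.mem_ker, MonoidHom.mem_ker]
    exact (MulEquiv.map_eq_one_iff e1.permCongrHom)
  have hgk' : g'.ker = C' := by
    rw [← hgk]
    ext x
    rw [MonoidHom.mem_ker, MonoidHom.mem_ker]
    exact (MulEquiv.map_eq_one_iff e2.permCongrHom)
  have hφk : φ.ker = (K a b : Subgroup G).subgroupOf A := by
    rw [← ker_toPermHom, subgroupOf, comap_map_eq_self_of_injective (subtype_injective _)]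
  have hKA : (K a b : Subgroup G) ≤ A := K_le_left a b
  have hKrel : (K a b : Subgroup G).relIndex A = Nat.card f.range := by
    rw [← index_ker, hfk, hφk]; rfl
  have hLrel : (K b a : Subgroup G).relIndex (A ⊓ B) = Nat.card g'.range := by
    have h1 : Nat.card g'.range = Nat.card (rho (B ⊓ A) Γ hinv).range := by
      rw [hgr', hgr]
      rw [card_map_of_injective (show Function.Injective e2.permCongrHom.toMonoidHom from
        e2.permCongrHom.injective)]
      have h2 : ρ.range = (rho (B ⊓ A) Γ hinv).range := by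
        ext σ
        constructor
        · rintro ⟨x, rfl⟩; exact ⟨ι x, rfl⟩
        · rintro ⟨⟨w, hw⟩, rfl⟩; exact ⟨⟨⟨w, hw.2⟩, hw.1⟩, rfl⟩
      rw [h2]
    rw [h1, ← index_ker, inf_comm]
    have hk : (rho (B ⊓ A) Γ hinv).ker = (K b a : Subgroup G).subgroupOf (B ⊓ A) := by
      rw [ker_rho]
      ext ⟨w, hw⟩
      rw [mem_subgroupOf, mem_subgroupOf, mem_fixingSubgroup_iff, hLmem w hw]
    rw [hk]
    rfl
  have hres := five (by rw [Fintype.card_fin]; omega) (by rw [Fintype.card_fin]; omega) f g'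
    hfalt hgalt ?_ ?_ ?_ ?_
  · rw [hfi] at hres
    rcases hres with h1 | ⟨h1, h2⟩
    · exact Or.inl h1
    · right
      refine ⟨?_, h2⟩
      rw [← index_eq_one, ← hfi, h1, index_top]
  · rw [hfk, hφk]
    intro h1
    rw [subgroupOf_eq_bot] at h1
    exact hK (h1.eq_bot_of_le hKA)
  · rw [hgk', hC']
    intro h1
    rw [subgroupOf_eq_bot] at h1
    have h2 : C = ⊥ := h1.eq_bot_of_le hCA
    rw [h2, inf_bot_eq] at hDC
    exact hL hDC.symm
  · rw [hfk, hφk, hgk', hC', eq_bot_iff]
    rintro x ⟨h1, h2⟩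
    have h3 : (x : G) ∈ C ⊓ (K a b : Subgroup G) := ⟨h2, h1⟩
    rw [hCK, mem_bot] at h3
    exact Subtype.ext h3
  · rintro ⟨h1, x, hx⟩
    have hfa : f.range = alternatingGroup (Fin d) := by
      refine le_antisymm ?_ hfalt
      rintro _ ⟨y, rfl⟩
      exact Equiv.Perm.mem_alternatingGroup.mpr (h1 y)
    have hgt : g'.range = ⊤ := by
      rw [eq_top_iff]
      intro y _
      rcases Int.units_eq_one_or (Equiv.Perm.sign y) with hy | hy
      · exact hgalt (Equiv.Perm.mem_alternatingGroup.mpr hy)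
      · have h2 : y * (g' x)⁻¹ ∈ alternatingGroup (Fin (d - 1)) := by
          rw [Equiv.Perm.mem_alternatingGroup, map_mul, map_inv, hx, hy, mul_inv_cancel]
        have h3 : y = (y * (g' x)⁻¹) * g' x := by group
        rw [h3]
        exact mul_mem (hgalt h2) ⟨x, rfl⟩
    have hα : (K a b : Subgroup G).relIndex A = t := by
      rw [hKrel, hfa]
      have h2 := two_mul_nat_card_alternatingGroup (α := Fin d)
      rw [Nat.card_perm, Nat.card_fin, ← ht] at h2
      omega
    have hβ : (K b a : Subgroup G).relIndex (A ⊓ B) = 2 * s := by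
      rw [hLrel, hgt, card_top, Nat.card_perm, Nat.card_fin, hs]
    have hAD := card_orbit_mul (G := G) a b
    rw [hd] at hAD
    refine excluded h hKL hAD ?_ hα hβ
    obtain ⟨n1, n2, n3⟩ := fact_ineq h6
    rw [← hs, ← ht] at n2
    have : 2 * t = 2 * (d * s) := by rw [n2]; ring
    omega

end Cfsg.Agent.H508.AltStab
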