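import Mathlib
import Cfsg.Agent.H508.Patterson
import Cfsg.Agent.SylowL.Lower
import Cfsg.Agent.S0263
import Cfsg.Agent.Lib.ElemAbGL

/-!
# Generators of `p`-subgroups of `GL(n, p)`

Every `p`-subgroup of `GL(n, p)` is generated by at most `n² / 4` elements.
-/

set_option autoImplicit false
set_option linter.style.haveILetI false

namespace Cfsg.Agent.H508.GLGen

open Cfsg.Agent.SylowL.UT

variable {p n : ℕ} [hp : Fact p.Prime]

/-- The group of unitriangular matrices as a Sylow subgroup. -/
theorem exists_sylow_UT : ∃ S : Sylow p (GL (Fin n) (ZMod p)), (S : Subgroup _) = UT n (ZMod p) := by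
  have h1 : Nat.card (UT n (ZMod p)) = p ^ (Nat.card (GL (Fin n) (ZMod p))).factorization p := by
    obtain ⟨S⟩ : Nonempty (Sylow p (GL (Fin n) (ZMod p))) := inferInstance
    rw [← Sylow.card_eq_multiplicity S, Cfsg.Agent.S0263.result (F := ZMod p) (q := p) (ZMod.card p) p n S,
      Cfsg.Agent.SylowL.Lower.card_UT, Nat.card_zmod]
  exact ⟨Sylow.ofCard (UT n (ZMod p)) h1, rfl⟩

/-- A finite `p`-group inside `GL(n, p)` embeds into the unitriangular group. -/
theorem exists_hom_UT {X : Type*} [Group X] [Finite X] (hX : IsPGroup p X) (f : X →* GL (Fin n) (ZMod p))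
    (hf : Function.Injective f) : ∃ g : X →* UT n (ZMod p), Function.Injective g := by
  classical
  obtain ⟨S, hS⟩ := exists_sylow_UT (p := p) (n := n)
  have hr : IsPGroup p f.range := hX.of_surjective f.rangeRestrict f.rangeRestrict_surjective
  obtain ⟨Q, hQ⟩ := hr.exists_le_sylow
  obtain ⟨g, hg⟩ := MulAction.exists_smul_eq (GL (Fin n) (ZMod p)) Q S
  let f' : X →* GL (Fin n) (ZMod p) := (MulAut.conj g).toMonoidHom.comp f
  have hf' : ∀ x, f' x ∈ UT n (ZMod p) := by
    intro x
    rw [← hS, ← hg]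
    have h1 : f x ∈ (Q : Subgroup _) := hQ ⟨x, rfl⟩
    exact Subgroup.smul_mem_pointwise_smul (f x) (MulAut.conj g) (Q : Subgroup _) h1
  refine ⟨f'.codRestrict (UT n (ZMod p)) hf', ?_⟩
  intro a b hab
  have h2 : f' a = f' b := congrArg Subtype.val hab
  exact hf ((MulAut.conj g).injective h2)

/-- Every finite `p`-group that embeds into `GL(n, p)` is generated by at most `n² / 4` elements. -/
theorem exists_gen_GL {X : Type*} [Group X] [Finite X] (hX : IsPGroup p X) (f : X →* GL (Fin n) (ZMod p))
    (hf : Function.Injective f) : ∃ T : Finset X, 4 * T.card ≤ n ^ 2 ∧ Subgroup.closure (T : Set X) = ⊤ := by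
  obtain ⟨g, hg⟩ := exists_hom_UT hX f hf
  exact Cfsg.Agent.H508.Patterson.exists_gen g hX hg

/-- A `p`-group acting faithfully on an elementary abelian group of order `p ^ n` is generated by at most
`n² / 4` elements. -/
theorem exists_gen_mulAut {X V : Type*} [Group X] [Finite X] [Group V] (hX : IsPGroup p X)
    (hcomm : ∀ a b : V, a * b = b * a) (hpow : ∀ a : V, a ^ p = 1) (hV : Nat.card V = p ^ n)
    (f : X →* MulAut V) (hf : Function.Injective f) :
    ∃ T : Finset X, 4 * T.card ≤ n ^ 2 ∧ Subgroup.closure (T : Set X) = ⊤ := by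
  letI : CommGroup V := { ‹Group V› with mul_comm := hcomm }
  obtain ⟨e⟩ := Cfsg.Agent.Lib.ElemAbGL.mulAut_equiv_GL (V := V) p n hpow hV
  exact exists_gen_GL hX (e.toMonoidHom.comp f) (e.injective.comp hf)

end Cfsg.Agent.H508.GLGen
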